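import Cfsg.Prelude.Def_Classical

/-! The derived subgroup of SU(3,2): order 54, generated by three involutions. -/

set_option autoImplicit false

namespace Cfsg.Agent.Lib.SU32.Derived

open Cfsg

/-- the field with four elements, as exponents shifted by one -/
def F4 : Type := Fin 4

instance f4DecEq : DecidableEq F4 := inferInstanceAs (DecidableEq (Fin 4))
instance f4Fintype : Fintype F4 := inferInstanceAs (Fintype (Fin 4))

def mulN (a b : ℕ) : ℕ := if a = 0 ∨ b = 0 then 0 else (a + b - 2) % 3 + 1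

def e (n : ℕ) : F4 := (⟨n % 4, Nat.mod_lt _ (by norm_num)⟩ : Fin 4)
def n' (a : F4) : ℕ := Fin.val a

instance f4CommRing : CommRing F4 where
  add a b := e (n' a ^^^ n' b)
  zero := e 0
  one := e 1
  neg a := a
  mul a b := e (mulN (n' a) (n' b))
  nsmul := @nsmulRec F4 ⟨e 0⟩ ⟨fun a b => e (n' a ^^^ n' b)⟩
  zsmul := @zsmulRec F4 ⟨e 0⟩ ⟨fun a b => e (n' a ^^^ n' b)⟩ ⟨fun a => a⟩
    (@nsmulRec F4 ⟨e 0⟩ ⟨fun a b => e (n' a ^^^ n' b)⟩)
  add_assoc := by decide +kernel
  zero_add := by decide +kernel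
  add_zero := by decide +kernel
  add_comm := by decide +kernel
  left_distrib := by decide +kernel
  right_distrib := by decide +kernel
  zero_mul := by decide +kernel
  mul_zero := by decide +kernel
  mul_assoc := by decide +kernel
  one_mul := by decide +kernel
  mul_one := by decide +kernel
  mul_comm := by decide +kernel
  neg_add_cancel := by decide +kernel

instance f4Field : Field F4 where
  inv a := a * a
  exists_pair_ne := ⟨e 0, e 1, by decide +kernel⟩
  mul_inv_cancel := by decide +kernel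
  inv_zero := by decide +kernel
  nnqsmul := _
  qsmul := _

theorem n_inj : Function.Injective n' := fun _ _ h => Fin.ext h
theorem n_add : ∀ a b : F4, n' (a + b) = n' a ^^^ n' b := by decide +kernel
theorem n_mul : ∀ a b : F4, n' (a * b) = mulN (n' a) (n' b) := by decide +kernel
theorem n_sq : ∀ a : F4, n' (a ^ 2) = mulN (n' a) (n' a) := by decide +kernel
theorem sq_add4 : ∀ a b : F4, (a + b) ^ 2 = a ^ 2 + b ^ 2 := by decide +kernel
theorem neg4 : ∀ a : F4, -a = a := by decide +kernel

abbrev S := SU 3 F4 2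
abbrev Col := ℕ × ℕ × ℕ
abbrev Cols := Col × Col × Col

def app (g : Cols) (v : Col) : Col :=
  (mulN g.1.1 v.1 ^^^ mulN g.2.1.1 v.2.1 ^^^ mulN g.2.2.1 v.2.2,
   mulN g.1.2.1 v.1 ^^^ mulN g.2.1.2.1 v.2.1 ^^^ mulN g.2.2.2.1 v.2.2,
   mulN g.1.2.2 v.1 ^^^ mulN g.2.1.2.2 v.2.1 ^^^ mulN g.2.2.2.2 v.2.2)

def mmN (g h : Cols) : Cols := (app g h.1, app g h.2.1, app g h.2.2)

def dotN (u v : Col) : ℕ :=
  mulN u.1 (mulN v.1 v.1) ^^^ mulN u.2.1 (mulN v.2.1 v.2.1) ^^^ mulN u.2.2 (mulN v.2.2 v.2.2)

def piN (u : Col) : ℕ := mulN u.1 (mulN u.2.1 u.2.2)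

def detN (g : Cols) : ℕ :=
  mulN (mulN g.1.1 g.2.1.2.1) g.2.2.2.2 ^^^ mulN (mulN g.1.1 g.2.2.2.1) g.2.1.2.2 ^^^
    mulN (mulN g.2.1.1 g.1.2.1) g.2.2.2.2 ^^^ mulN (mulN g.2.1.1 g.2.2.2.1) g.1.2.2 ^^^
    mulN (mulN g.2.2.1 g.1.2.1) g.2.1.2.2 ^^^ mulN (mulN g.2.2.1 g.2.1.2.1) g.1.2.2

def allCols : List Col :=
  (List.range 4).flatMap fun a => (List.range 4).flatMap fun b => (List.range 4).map fun c => (a, b, c)

def units : List Col := allCols.filter fun u => dotN u u == 1

def elems : List Cols :=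
  units.flatMap fun a => (units.filter fun b => dotN a b == 0).flatMap fun b =>
    ((units.filter fun c => (dotN a c == 0) && (dotN b c == 0)).filter fun c =>
      detN (a, b, c) == 1).map fun c => (a, b, c)

theorem pi_additive : (elems.all fun g => units.all fun v =>
    piN (app g v) == (piN g.1 ^^^ piN v)) = true := by decide +kernel

theorem length_kernel : (elems.filter fun g => piN g.1 == 0).length ≤ 54 := by decide +kernel

def mat (g : S) : Matrix (Fin 3) (Fin 3) F4 :=
  ((g : Matrix.SpecialLinearGroup (Fin 3) F4) : Matrix (Fin 3) (Fin 3) F4)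

def col (g : S) (j : Fin 3) : Col := (n' (mat g 0 j), n' (mat g 1 j), n' (mat g 2 j))
def code (g : S) : Cols := (col g 0, col g 1, col g 2)

theorem code_injective : Function.Injective code := by
  intro g h hgh
  simp only [code, col, Prod.mk.injEq] at hgh
  obtain ⟨⟨a, b, c⟩, ⟨d, f, k⟩, p, q, r⟩ := hgh
  apply Subtype.ext; apply Subtype.ext
  show mat g = mat h
  ext i j
  fin_cases i <;> fin_cases j <;> apply n_inj <;> assumption

theorem code_mul (g h : S) : code (g * h) = mmN (code g) (code h) := by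
  have : mat (g * h) = mat g * mat h := rfl
  simp [code, col, mmN, app, this, Matrix.mul_apply, Fin.sum_univ_three, n_add, n_mul]

theorem col_dot (g : S) (j k : Fin 3) : dotN (col g j) (col g k) = if j = k then 1 else 0 := by
  have h := g.2 (Pi.single j 1) (Pi.single k 1)
  have hm : slToMat 3 F4 (g : Matrix.SpecialLinearGroup (Fin 3) F4) = mat g := rfl
  simp only [hm, hermForm, Matrix.mulVec_single_one, Matrix.col_apply, Fin.sum_univ_three] at h
  have h' := congrArg n' h
  simp only [n_add, n_mul, n_sq] at h'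
  unfold dotN col
  simp only
  rw [h']
  clear h h' hm g
  revert j k; decide +kernel

theorem n_lt (a : F4) : n' a < 4 := Fin.isLt a

theorem col_mem (g : S) (j : Fin 3) : col g j ∈ units := by
  simp [units, allCols, col_dot, col, n_lt]
  simpa [col] using col_dot g j j

theorem code_mem (g : S) : code g ∈ elems := by
  have hd : detN (code g) = 1 := by
    have h := (g : Matrix.SpecialLinearGroup (Fin 3) F4).2
    change (mat g).det = 1 at h
    rw [Matrix.det_fin_three] at h
    simp only [sub_eq_add_neg, neg4] at h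
    have h' := congrArg n' h
    simp only [n_add, n_mul] at h'
    exact h'
  have o01 : dotN (col g 0) (col g 1) = 0 := col_dot g 0 1
  have o02 : dotN (col g 0) (col g 2) = 0 := col_dot g 0 2
  have o12 : dotN (col g 1) (col g 2) = 0 := col_dot g 1 2
  simp only [elems, code, List.mem_flatMap, List.mem_map, List.mem_filter]
  exact ⟨_, col_mem g 0, _, ⟨col_mem g 1, by simp [o01]⟩, _,
    ⟨⟨col_mem g 2, by simp [o02, o12]⟩, by simpa [code] using hd⟩, rfl⟩

def piF (g : S) : F4 := mat g 0 0 * (mat g 1 0 * mat g 2 0)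

theorem n_piF (g : S) : n' (piF g) = piN (code g).1 := by
  simp [piF, piN, code, col, n_mul]

theorem piF_mul (g h : S) : piF (g * h) = piF g + piF h := by
  apply n_inj
  rw [n_add, n_piF, n_piF, n_piF, code_mul]
  have := List.all_eq_true.1 (List.all_eq_true.1 pi_additive (code g) (code_mem g)) _ (col_mem h 0)
  simpa [mmN, code] using eq_of_beq this

def chi : S →* Multiplicative F4 where
  toFun g := Multiplicative.ofAdd (piF g)
  map_one' := by decide +kernel
  map_mul' g h := by rw [piF_mul]; rfl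

theorem card_ker : Nat.card chi.ker ≤ 54 := by
  classical
  let L := (elems.filter fun g => piN g.1 == 0).toFinset
  have hmem : ∀ g : chi.ker, code g.1 ∈ L := by
    intro g
    have h : piF g.1 = 0 := Multiplicative.ofAdd.injective (g.2 : chi g.1 = 1)
    have h2 : piN (code g.1).1 = 0 := by rw [← n_piF, h]; rfl
    simp [L, code_mem, h2]
  have := Nat.card_le_card_of_injective (fun g : chi.ker => (⟨code g.1, hmem g⟩ : ↥L))
    (fun a b hab => Subtype.ext (code_injective (congrArg Subtype.val hab)))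
  rw [Nat.card_eq_finsetCard] at this
  exact this.trans ((List.toFinset_card_le _).trans length_kernel)

/-- an element from a matrix with orthonormal columns -/
def mk (M : Matrix (Fin 3) (Fin 3) F4) (hd : M.det = 1)
    (h : ∀ j k, ∑ i, M i j * M i k ^ 2 = if j = k then 1 else 0) : S :=
  ⟨⟨M, hd⟩, by
    intro u v
    show hermForm 3 F4 2 (M.mulVec u) (M.mulVec v) = hermForm 3 F4 2 u v
    have h00 := h 0 0; have h01 := h 0 1; have h02 := h 0 2
    have h10 := h 1 0; have h11 := h 1 1; have h12 := h 1 2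
    have h20 := h 2 0; have h21 := h 2 1; have h22 := h 2 2
    simp [Fin.sum_univ_three] at h00 h01 h02 h10 h11 h12 h20 h21 h22
    simp [hermForm, Matrix.mulVec, dotProduct, Fin.sum_univ_three, sq_add4, mul_pow]
    linear_combination u 0 * v 0 ^ 2 * h00 + u 0 * v 1 ^ 2 * h01 + u 0 * v 2 ^ 2 * h02
      + u 1 * v 0 ^ 2 * h10 + u 1 * v 1 ^ 2 * h11 + u 1 * v 2 ^ 2 * h12
      + u 2 * v 0 ^ 2 * h20 + u 2 * v 1 ^ 2 * h21 + u 2 * v 2 ^ 2 * h22⟩

def t0 : S := mk !![e 0, e 1, e 0; e 1, e 0, e 0; e 0, e 0, e 1] (by decide +kernel) (by decide +kernel)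
def g0 : S := mk !![e 1, e 2, e 1; e 2, e 1, e 1; e 2, e 2, e 3] (by decide +kernel) (by decide +kernel)
def h0 : S := mk !![e 1, e 2, e 2; e 2, e 1, e 2; e 1, e 1, e 3] (by decide +kernel) (by decide +kernel)
theorem t0_mem : t0 ∈ commutator S := by
  have : t0 = g0 * h0 * g0⁻¹ * h0⁻¹ := by
    rw [eq_mul_inv_iff_mul_eq, eq_mul_inv_iff_mul_eq]
    decide +kernel
  rw [this, ← commutatorElement_def]
  exact Subgroup.commutator_mem_commutator (Subgroup.mem_top _) (Subgroup.mem_top _)
theorem t0_ord : orderOf t0 = 2 := orderOf_eq_prime (by decide +kernel) (by decide +kernel)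

def t1 : S := mk !![e 1, e 0, e 0; e 0, e 0, e 1; e 0, e 1, e 0] (by decide +kernel) (by decide +kernel)
def g1 : S := mk !![e 1, e 1, e 1; e 1, e 2, e 3; e 1, e 3, e 2] (by decide +kernel) (by decide +kernel)
def h1 : S := mk !![e 1, e 2, e 2; e 3, e 2, e 3; e 3, e 3, e 2] (by decide +kernel) (by decide +kernel)
theorem t1_mem : t1 ∈ commutator S := by
  have : t1 = g1 * h1 * g1⁻¹ * h1⁻¹ := by
    rw [eq_mul_inv_iff_mul_eq, eq_mul_inv_iff_mul_eq]
    decide +kernel
  rw [this, ← commutatorElement_def]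
  exact Subgroup.commutator_mem_commutator (Subgroup.mem_top _) (Subgroup.mem_top _)
theorem t1_ord : orderOf t1 = 2 := orderOf_eq_prime (by decide +kernel) (by decide +kernel)

def t2 : S := mk !![e 0, e 2, e 0; e 3, e 0, e 0; e 0, e 0, e 1] (by decide +kernel) (by decide +kernel)
def g2 : S := mk !![e 1, e 1, e 1; e 2, e 1, e 3; e 3, e 1, e 2] (by decide +kernel) (by decide +kernel)
def h2 : S := mk !![e 1, e 1, e 2; e 2, e 1, e 1; e 2, e 3, e 2] (by decide +kernel) (by decide +kernel)
theorem t2_mem : t2 ∈ commutator S := by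
  have : t2 = g2 * h2 * g2⁻¹ * h2⁻¹ := by
    rw [eq_mul_inv_iff_mul_eq, eq_mul_inv_iff_mul_eq]
    decide +kernel
  rw [this, ← commutatorElement_def]
  exact Subgroup.commutator_mem_commutator (Subgroup.mem_top _) (Subgroup.mem_top _)
theorem t2_ord : orderOf t2 = 2 := orderOf_eq_prime (by decide +kernel) (by decide +kernel)


def gen : ℕ → S
  | 0 => t0
  | 1 => t1
  | _ => t2

def words : List (List ℕ) := [[],
  [0],
  [1],
  [2],
  [1, 0],
  [2, 0],
  [0, 1],
  [2, 1],
  [0, 2],
  [1, 2],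
  [0, 1, 0],
  [2, 1, 0],
  [0, 2, 0],
  [1, 2, 0],
  [2, 0, 1],
  [0, 2, 1],
  [1, 2, 1],
  [1, 0, 2],
  [0, 1, 2],
  [2, 0, 1, 0],
  [0, 2, 1, 0],
  [1, 2, 1, 0],
  [1, 0, 2, 0],
  [0, 1, 2, 0],
  [0, 2, 0, 1],
  [1, 2, 0, 1],
  [1, 0, 2, 1],
  [0, 1, 2, 1],
  [0, 1, 0, 2],
  [2, 1, 0, 2],
  [2, 0, 1, 2],
  [0, 2, 0, 1, 0],
  [1, 2, 0, 1, 0],
  [1, 0, 2, 1, 0],
  [0, 1, 2, 1, 0],
  [0, 1, 0, 2, 0],
  [2, 1, 0, 2, 0],
  [2, 0, 1, 2, 0],
  [1, 0, 2, 0, 1],
  [0, 1, 2, 0, 1],
  [0, 1, 0, 2, 1],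
  [2, 1, 0, 2, 1],
  [2, 0, 1, 2, 1],
  [2, 0, 1, 0, 2],
  [0, 2, 1, 0, 2],
  [1, 2, 0, 1, 2],
  [1, 0, 2, 0, 1, 0],
  [0, 1, 2, 0, 1, 0],
  [0, 1, 0, 2, 1, 0],
  [2, 1, 0, 2, 1, 0],
  [2, 0, 1, 2, 1, 0],
  [2, 0, 1, 0, 2, 0],
  [0, 2, 1, 0, 2, 0],
  [1, 2, 0, 1, 2, 0]]

def evalN (w : List ℕ) : Cols :=
  w.foldr (fun k g => mmN (code (gen k)) g) ((1, 0, 0), (0, 1, 0), (0, 0, 1))

theorem words_nodup : (words.map evalN).Nodup := by decide +kernel

theorem code_prod (w : List ℕ) : code (w.map gen).prod = evalN w := by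
  induction w with
  | nil => decide +kernel
  | cons k w ih => rw [List.map_cons, List.prod_cons, code_mul, ih]; rfl

/-- The derived subgroup has order 54 and is generated by three involutions. -/
theorem derived4 : Nat.card (commutator S) = 54 ∧ Subgroup.closure {t0, t1, t2} = commutator S := by
  classical
  set K := Subgroup.closure ({t0, t1, t2} : Set S)
  have hK : K ≤ commutator S := (Subgroup.closure_le _).2 (by
    rintro x (rfl | rfl | rfl)
    exacts [t0_mem, t1_mem, t2_mem])
  have hC : commutator S ≤ chi.ker := Abelianization.commutator_subset_ker chi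
  have hgen : ∀ k, gen k ∈ K := by
    intro k
    apply Subgroup.subset_closure
    match k with
    | 0 => simp [gen]
    | 1 => simp [gen]
    | n + 2 => simp [gen]
  have hlow : 54 ≤ Nat.card K := by
    have hmem : ∀ w : List ℕ, (w.map gen).prod ∈ K := fun w => Subgroup.list_prod_mem _ (by
      intro x hx
      obtain ⟨k, -, rfl⟩ := List.mem_map.1 hx
      exact hgen k)
    let l : List K := words.map fun w => ⟨(w.map gen).prod, hmem w⟩
    have hl : l.Nodup := by
      apply List.Nodup.of_map (fun x : K => code x.1)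
      have : l.map (fun x : K => code x.1) = words.map evalN := by
        simp [l, List.map_map, Function.comp_def, code_prod]
      rw [this]; exact words_nodup
    have h54 : l.length = 54 := by simp [l]; rfl
    haveI : Fintype K := Fintype.ofFinite _
    rw [← h54, Nat.card_eq_fintype_card]
    exact hl.length_le_card
  have h1 : Nat.card K ≤ Nat.card (commutator S) := Subgroup.card_le_of_le hK
  have h2 : Nat.card (commutator S) ≤ Nat.card chi.ker := Subgroup.card_le_of_le hC
  have h3 := card_ker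
  exact ⟨by omega, Subgroup.eq_of_le_of_card_ge hK (by omega)⟩

theorem derived (F : Type) [Field F] [Fintype F] (hF : Fintype.card F = 4) :
    Nat.card (commutator (SU 3 F 2)) = 54 ∧ ∃ a b c : SU 3 F 2, orderOf a = 2 ∧ orderOf b = 2 ∧
      orderOf c = 2 ∧ Subgroup.closure {a, b, c} = commutator (SU 3 F 2) := by
  let φ : F4 ≃+* F := FiniteField.ringEquivOfCardEq (K := F4) (K' := F) (by rw [hF]; rfl)
  let Φ : Matrix.SpecialLinearGroup (Fin 3) F4 ≃* Matrix.SpecialLinearGroup (Fin 3) F :=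
    MulEquiv.ofBijective (Matrix.SpecialLinearGroup.map (φ : F4 →+* F)) ⟨fun a b h => by
      ext i j
      exact φ.injective (congrArg (fun m : Matrix.SpecialLinearGroup (Fin 3) F => (m : Matrix _ _ F) i j) h),
     fun m => ⟨Matrix.SpecialLinearGroup.map (φ.symm : F →+* F4) m, by ext i j; simp⟩⟩
  have key : ∀ g, Φ g ∈ SU 3 F 2 ↔ g ∈ SU 3 F4 2 := by
    intro g
    have hmul : ∀ u, (slToMat 3 F (Φ g)).mulVec (fun i => φ (u i)) = fun i => φ ((slToMat 3 F4 g).mulVec u i) := by
      intro u; funext i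
      simp [Φ, Matrix.mulVec, dotProduct, map_sum]
      rfl
    have hf : ∀ u v : Fin 3 → F4, hermForm 3 F 2 (fun i => φ (u i)) (fun i => φ (v i)) = φ (hermForm 3 F4 2 u v) := by
      intro u v; simp [hermForm, map_sum]
    constructor
    · intro h u v
      apply φ.injective
      rw [← hf, ← hf, ← hmul, ← hmul]
      exact h _ _
    · intro h u v
      have hu : u = fun i => φ (φ.symm (u i)) := by simp
      have hv : v = fun i => φ (φ.symm (v i)) := by simp
      rw [hu, hv, hmul, hmul, hf, hf, h]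
  let E : S ≃* SU 3 F 2 :=
    (Φ.subgroupMap (SU 3 F4 2)).trans (MulEquiv.subgroupCongr (by
      ext x
      constructor
      · rintro ⟨g, hg, rfl⟩; exact (key g).2 hg
      · intro hx; exact ⟨Φ.symm x, (key _).1 (by simpa using hx), by simp⟩))
  have hmap : (commutator S).map E.toMonoidHom = commutator (SU 3 F 2) := by
    rw [commutator_def, Subgroup.map_commutator, Subgroup.map_top_of_surjective _ E.surjective, commutator_def]
  refine ⟨?_, E t0, E t1, E t2, (MulEquiv.orderOf_eq E t0).trans t0_ord, (MulEquiv.orderOf_eq E t1).trans t1_ord,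
    (MulEquiv.orderOf_eq E t2).trans t2_ord, ?_⟩
  · rw [← hmap, ← derived4.1]
    exact (Nat.card_congr ((commutator S).equivMapOfInjective _ E.injective).toEquiv).symm
  · rw [← hmap, ← derived4.2, MonoidHom.map_closure]
    simp [Set.image_insert_eq]

end Cfsg.Agent.Lib.SU32.Derived
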